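import Cfsg.Agent.H736.SK.PspSp4
import Cfsg.Agent.H282.SK.Tools
import Cfsg.Agent.H731.SK.Rows
import Cfsg.Agent.WeakTI.ResLA
import Cfsg.Agent.ClassicalGeometry.SympAutExists

/-!
# S3010 (Sidki pairs): the row `PSp_2m(q)`, `q` even (helper736)
-/

set_option autoImplicit false
set_option linter.unusedSectionVars false
set_option linter.unusedSimpArgs false
set_option linter.unusedVariables false

universe u

namespace Cfsg.Agent.H736.SK

open Cfsg Cfsg.Agent.ClassicalGeometry Cfsg.Agent.ClassicalGeometry.SympBasic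
open Cfsg.Agent.ClassicalGeometry.SympSiegel Cfsg.Agent.ClassicalGeometry.SympAutSemi
open Cfsg.Agent.H282.SK

section Grp

variable {F : Type} [Field F] [CharP F 2] [Finite F] {m : ℕ}

local notation "Sp" => Matrix.symplecticGroup (Fin m) F
local notation "W" => (Fin m ⊕ Fin m → F)
local notation "f" => sympForm m F

/-- an automorphism mapping a transvection to a transvection is induced by a semisimilitude -/
theorem mem_range_of_transv (hm : 2 ≤ m) {α : MulAut (PSp m F)} {v w : W} (hv : v ≠ 0) (hw : w ≠ 0) {c d : F}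
    (hc : c ≠ 0) (hd : d ≠ 0) (h : α (QuotientGroup.mk (transv v c)) = QuotientGroup.mk (transv w d)) :
    α ∈ (Psi m F).range := by
  refine SympAutExists.exists_semi hm α ?_
  intro v' hv' c' hc'
  obtain ⟨g, hg⟩ := SympAutTwo.transv_conj (CharTwo.two_eq_zero (R := F)) hv hv' hc hc'
  obtain ⟨w', hw', e'⟩ := AutPSpCount.exists_conj_mk_transv (α (QuotientGroup.mk g)) hw d
  refine ⟨w', hw', d, hd, ?_⟩
  rw [← e', ← hg, QuotientGroup.mk_mul, QuotientGroup.mk_mul, QuotientGroup.mk_inv, map_mul, map_mul, map_inv, h]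

variable {G' : Type u} [Group G'] [Finite G'] {V K : Subgroup G'}

/-- the group `K` as a symplectic group -/
structure Rep (K : Subgroup G') (ρ : Matrix.symplecticGroup (Fin m) F →* G') (φ : G' →* MulAut (PSp m F)) :
    Prop where
  inj : Function.Injective ρ
  mem : ∀ A, ρ A ∈ K
  surj : ∀ k ∈ K, ∃ A, ρ A = k
  act : ∀ g A B, φ g (QuotientGroup.mk A) = QuotientGroup.mk B ↔ g * ρ A * g⁻¹ = ρ B

theorem exists_rep (h : Cx V K) (e : K ≃* PSp m F) :
    ∃ (ρ : Sp →* G') (φ : G' →* MulAut (PSp m F)), Rep K ρ φ := by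
  obtain ⟨φ, hinj, hconj, hact⟩ := h.exists_toAut e
  have h2 : (2 : F) = 0 := CharTwo.two_eq_zero
  let ρ : Sp →* G' := K.subtype.comp (e.symm.toMonoidHom.comp (QuotientGroup.mk' _))
  have hρ : ∀ A, ρ A = (e.symm (QuotientGroup.mk A) : K) := fun A => rfl
  refine ⟨ρ, φ, ?_, ?_, ?_, ?_⟩
  · intro A B hAB
    rw [hρ, hρ] at hAB
    exact SympAutOdd.mk_injective h2 (e.symm.injective (Subtype.ext hAB))
  · intro A
    rw [hρ]
    exact (e.symm (QuotientGroup.mk A)).2
  · intro k hk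
    obtain ⟨A, hA⟩ := QuotientGroup.mk_surjective (e ⟨k, hk⟩)
    refine ⟨A, ?_⟩
    rw [hρ, hA, e.symm_apply_apply]
  · intro g A B
    obtain ⟨hgk, h1⟩ := hact g (e.symm (QuotientGroup.mk A))
    rw [e.apply_symm_apply] at h1
    rw [h1, ← MulEquiv.eq_symm_apply, Subtype.ext_iff, hρ, hρ]

variable {ρ : Matrix.symplecticGroup (Fin m) F →* G'} {φ : G' →* MulAut (PSp m F)}

/-- `g` acts as the semisimilitude `s` -/
def Sem (ρ : Matrix.symplecticGroup (Fin m) F →* G') (g : G') (s : Equiv.Perm (Fin m ⊕ Fin m → F)) (σ : F ≃+* F)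
    (l : F) : Prop :=
  l ≠ 0 ∧ IsSemi s σ l ∧ ∀ A, ∃ B, g * ρ A * g⁻¹ = ρ B ∧ ∀ w : Fin m ⊕ Fin m → F, s (A • w) = B • s w

theorem Rep.semi (hR : Rep K ρ φ) {g : G'} (hg : φ g ∈ (Psi m F).range) :
    ∃ s σ l, Sem ρ g s σ l := by
  obtain ⟨S, hS⟩ := hg
  obtain ⟨σ, l, hl, hs⟩ := S.2
  refine ⟨S.1, σ, l, hl, hs, fun A => ⟨conjHom m F S A, ?_, fun w => ?_⟩⟩
  · rw [← hR.act, ← hS, Psi_mk]
  · have h1 := rho_conjHom S A
    have h2 : rho m F (conjHom m F S A) * S.1 = S.1 * rho m F A := by rw [h1, inv_mul_cancel_right]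
    have h3 := congrArg (fun p : Equiv.Perm W => p w) h2
    exact h3.symm

theorem Sem.comm (hR : Rep K ρ φ) {g : G'} {s : Equiv.Perm W} {σ : F ≃+* F} {l : F} (h : Sem ρ g s σ l) {A : Sp}
    (hc : Commute g (ρ A)) (w : W) : s (A • w) = A • s w := by
  obtain ⟨B, h1, h2⟩ := h.2.2 A
  have h3 : A = B := by
    apply hR.inj
    rw [← h1, hc.eq, mul_inv_cancel_right]
  rw [h2 w, ← h3]

theorem Sem.mul {g g' : G'} {s s' : Equiv.Perm W} {σ σ' : F ≃+* F} {l l' : F} (h : Sem ρ g s σ l)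
    (h' : Sem ρ g' s' σ' l') : Sem ρ (g * g') (s * s') (σ'.trans σ) (l * σ l') := by
  refine ⟨mul_ne_zero h.1 (by simpa using h'.1), h.2.1.mul h'.2.1, fun A => ?_⟩
  obtain ⟨B, h1, h2⟩ := h'.2.2 A
  obtain ⟨C, h3, h4⟩ := h.2.2 B
  refine ⟨C, ?_, fun w => ?_⟩
  · rw [← h3, ← h1, mul_inv_rev]
    group
  · rw [Equiv.Perm.mul_apply, Equiv.Perm.mul_apply, h2, h4]

/-- the linear semisimilitudes lie in `K` -/
theorem Sem.mem_K (h : Cx V K) (hR : Rep K ρ φ) {g : G'} {s : Equiv.Perm W} {σ : F ≃+* F} {l : F}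
    (hs : Sem ρ g s σ l) (hσ : ∀ a, σ a = a) : g ∈ K := by
  have : Fintype F := Fintype.ofFinite F
  obtain ⟨hl, ⟨hadd, hsm, hform⟩, hact⟩ := hs
  obtain ⟨r, hr⟩ := FiniteField.isSquare_of_char_two (ringChar.eq F 2) l
  have hr0 : r ≠ 0 := by
    rintro rfl
    rw [mul_zero] at hr
    exact hl hr
  obtain ⟨T, hT⟩ : ∃ T : W →ₗ[F] W, ∀ w, T w = r⁻¹ • s w :=
    ⟨{ toFun := fun w => r⁻¹ • s w
       map_add' := fun u w => by rw [hadd, smul_add]
       map_smul' := fun a w => by rw [hsm, hσ, RingHom.id_apply, smul_comm] }, fun w => rfl⟩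
  have hiso : ∀ u w, f (T u) (T w) = f u w := by
    intro u w
    rw [hT, hT, sympForm_smul_left, sympForm_smul_right, hform, hσ, hr]
    field_simp
  obtain ⟨B, hB⟩ : ∃ B : Sp, ∀ w : W, B • w = r⁻¹ • s w :=
    ⟨ofIso T hiso, fun w => by rw [ofIso_smul, hT]⟩
  have hB' : ∀ w : W, s w = r • (B • w) := by
    intro w
    rw [hB, smul_smul, mul_inv_cancel₀ hr0, one_smul]
  have key : (ρ B)⁻¹ * g = 1 := by
    apply h.eq_one_of_comm
    intro k hk
    obtain ⟨A, rfl⟩ := hR.surj k hk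
    obtain ⟨C, h1, h2⟩ := hact A
    have h3 : C = B * A * B⁻¹ := by
      rw [eq_mul_inv_iff_mul_eq]
      apply ext_smul
      intro w
      have h4 := h2 w
      rw [hB', hB', smul_smul', ← mul_smul, ← mul_smul] at h4
      have h5 := congrArg (fun y => r⁻¹ • y) h4
      simp only [smul_smul, inv_mul_cancel₀ hr0, one_smul] at h5
      exact h5.symm
    rw [h3, map_mul, map_mul, map_inv, mul_inv_eq_iff_eq_mul] at h1
    calc (ρ B)⁻¹ * g * ρ A = (ρ B)⁻¹ * (g * ρ A) := by group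
      _ = (ρ B)⁻¹ * (ρ B * ρ A * (ρ B)⁻¹ * g) := by rw [h1]
      _ = ρ A * ((ρ B)⁻¹ * g) := by group
  have h1 : g = ρ B := by
    calc g = ρ B * ((ρ B)⁻¹ * g) := by group
      _ = ρ B := by rw [key, mul_one]
  rw [h1]
  exact hR.mem B

/-- the square of the field automorphism of an involution is trivial -/
theorem Sem.sq (hm : 1 ≤ m) (hR : Rep K ρ φ) {g : G'} (hgg : g * g = 1) {s : Equiv.Perm W} {σ : F ≃+* F} {l : F}
    (hs : Sem ρ g s σ l) (c : F) : σ (σ c) = c := by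
  have h2 := hs.mul hs
  rw [hgg] at h2
  obtain ⟨hl, ⟨hadd, hsm, hform⟩, hact⟩ := h2
  have hcomm : ∀ (A : Sp) (w : W), (s * s) (A • w) = A • (s * s) w := by
    intro A w
    obtain ⟨B, h1, h2⟩ := hact A
    rw [one_mul, inv_one, mul_one] at h1
    rw [h2, hR.inj h1]
  have hs0 : (s * s) 0 = 0 := by
    have := hadd 0 0
    rw [add_zero] at this
    exact (add_eq_left.1 this.symm)
  obtain ⟨e, e', hee⟩ := SympAutExists.exists_hyperbolic (F := F) hm
  have he : e ≠ 0 := SympAutExists.ne_zero_of_form_left (by rw [hee]; exact one_ne_zero)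
  have key : ∀ c : F, σ (σ c) • (s * s) e = (c * f ((s * s) e') e) • e := by
    intro c
    have h1 := hcomm (transv e c) e'
    rw [transv_smul, transv_smul, hadd, form_comm e' e, hee, mul_one, hsm] at h1
    exact add_left_cancel h1
  have h3 := key 1
  rw [map_one, map_one, one_smul, one_mul] at h3
  have h4 : f ((s * s) e') e ≠ 0 := by
    intro h0
    rw [h0, zero_smul, ← hs0] at h3
    exact he ((s * s).injective h3)
  have h5 := key c
  rw [h3, smul_smul] at h5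
  have h6 : ((σ (σ c) - c) * f ((s * s) e') e) • e = 0 := by
    rw [sub_mul, sub_smul, h5, sub_self]
  have h7 := (smul_eq_zero.1 h6).resolve_right he
  exact sub_eq_zero.1 ((mul_eq_zero.1 h7).resolve_right h4)

/-- the product of two outer semilinear involutions is inner -/
theorem mul_mem_K (h : Cx V K) (hm : 1 ≤ m) (hR : Rep K ρ φ) {g g' : G'} (hg : g * g = 1) (hg' : g' * g' = 1)
    (hP : φ g ∈ (Psi m F).range) (hP' : φ g' ∈ (Psi m F).range) (hK : g ∉ K) (hK' : g' ∉ K) : g * g' ∈ K := by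
  obtain ⟨s, σ, l, hs⟩ := hR.semi hP
  obtain ⟨s', σ', l', hs'⟩ := hR.semi hP'
  have h1 : ∃ x, σ x ≠ x := by
    by_contra hcon
    push Not at hcon
    exact hK (hs.mem_K h hR hcon)
  have h2 : ∃ x, σ' x ≠ x := by
    by_contra hcon
    push Not at hcon
    exact hK' (hs'.mem_K h hR hcon)
  have h3 := WeakTI.ResLA.ringEquiv_eq_of_involution (hs.sq hm hR hg) (hs'.sq hm hR hg') h1 h2
  refine (hs.mul hs').mem_K h hR fun a => ?_
  rw [RingEquiv.trans_apply, ← h3, hs.sq hm hR hg]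

/-- a scalar moved by all outer semilinear elements of `V` -/
theorem exists_scalar (h : Cx V K) (hm : 1 ≤ m) (hR : Rep K ρ φ) :
    ∃ l : F, l ≠ 0 ∧ ∀ g ∈ V, g ∉ K → ∀ s σ l', Sem ρ g s σ l' → σ l ≠ l := by
  by_cases hex : ∃ g ∈ V, g ∉ K ∧ ∃ s σ l', Sem ρ g s σ l'
  · obtain ⟨g, hgV, hgK, s, σ, l', hs⟩ := hex
    have h1 : ∃ x, σ x ≠ x := by
      by_contra hcon
      push Not at hcon
      exact hgK (hs.mem_K h hR hcon)
    obtain ⟨l, hl⟩ := h1
    refine ⟨l, ?_, ?_⟩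
    · rintro rfl
      exact hl (map_zero σ)
    · intro g₁ hg₁V hg₁K s₁ σ₁ l₁ hs₁
      have h2 : ∃ x, σ₁ x ≠ x := by
        by_contra hcon
        push Not at hcon
        exact hg₁K (hs₁.mem_K h hR hcon)
      have h3 := WeakTI.ResLA.ringEquiv_eq_of_involution (hs.sq hm hR (h.sq hgV)) (hs₁.sq hm hR (h.sq hg₁V))
        ⟨l, hl⟩ h2
      rw [← h3]
      exact hl
  · refine ⟨1, one_ne_zero, ?_⟩
    intro g hgV hgK s σ l' hs
    exact absurd ⟨g, hgV, hgK, s, σ, l', hs⟩ hex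

/-- `V ∩ K ≠ 1` -/
theorem exists_mem_K (h : Cx V K) (hm : 1 ≤ m) (hR : Rep K ρ φ)
    (hidx : ∀ g g' : G', φ g ∉ (Psi m F).range → φ g' ∉ (Psi m F).range → φ (g * g') ∈ (Psi m F).range) :
    ∃ v ∈ V, v ∈ K ∧ v ≠ 1 := by
  by_contra hcon
  push Not at hcon
  obtain ⟨a, haV, ha⟩ : ∃ a ∈ V, ∀ g ∈ V, φ g ∈ (Psi m F).range → g = 1 ∨ g = a := by
    by_cases hex : ∃ g ∈ V, φ g ∈ (Psi m F).range ∧ g ≠ 1
    · obtain ⟨a, haV, haP, ha1⟩ := hex
      refine ⟨a, haV, fun g hgV hgP => ?_⟩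
      by_cases hg1 : g = 1
      · exact Or.inl hg1
      right
      have haK : a ∉ K := fun hk => ha1 (hcon a haV hk)
      have hgK : g ∉ K := fun hk => hg1 (hcon g hgV hk)
      have h1 := hcon _ (V.mul_mem haV hgV) (mul_mem_K h hm hR (h.sq haV) (h.sq hgV) haP hgP haK hgK)
      rw [← h.inv_eq haV]
      exact eq_inv_of_mul_eq_one_right h1
    · push Not at hex
      exact ⟨1, V.one_mem, fun g hgV hgP => Or.inl (hex g hgV hgP)⟩
  obtain ⟨b, hb⟩ : ∃ b : G', ∀ g ∈ V, φ g ∉ (Psi m F).range → g = b ∨ g = b * a := by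
    by_cases hex : ∃ g ∈ V, φ g ∉ (Psi m F).range
    · obtain ⟨b, hbV, hbP⟩ := hex
      refine ⟨b, fun g hgV hgP => ?_⟩
      have h2 : g = b * (b * g) := by rw [← mul_assoc, h.sq hbV, one_mul]
      rcases ha (b * g) (V.mul_mem hbV hgV) (hidx b g hbP hgP) with h1 | h1
      · left
        rw [h2, h1, mul_one]
      · right
        rw [h2, h1]
    · push Not at hex
      exact ⟨1, fun g hgV hgP => absurd (hex g hgV) hgP⟩
  have hsub : (V : Set G') ⊆ {1, a, b, b * a} := by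
    intro g hg
    by_cases hP : φ g ∈ (Psi m F).range
    · rcases ha g hg hP with h1 | h1
      · simp [h1]
      · simp [h1]
    · rcases hb g hg hP with h1 | h1
      · simp [h1]
      · simp [h1]
  have h1 : Nat.card V ≤ 4 := by
    calc Nat.card V = (V : Set G').ncard := rfl
      _ ≤ ({1, a, b, b * a} : Set G').ncard := Set.ncard_le_ncard hsub (Set.toFinite _)
      _ ≤ ({a, b, b * a} : Set G').ncard + 1 := Set.ncard_insert_le _ _
      _ ≤ (({b, b * a} : Set G').ncard + 1) + 1 := by gcongr; exact Set.ncard_insert_le _ _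
      _ ≤ ((({b * a} : Set G').ncard + 1) + 1) + 1 := by gcongr; exact Set.ncard_insert_le _ _
      _ = 4 := by rw [Set.ncard_singleton]
  have := h.card
  omega

/-- **the semilinear case** -/
theorem false_of_semi (h : Cx V K) (hm : 1 ≤ m) (hR : Rep K ρ φ) (hP : ∀ g ∈ V, φ g ∈ (Psi m F).range) : False := by
  obtain ⟨l, hl, hlσ⟩ := exists_scalar h hm hR
  obtain ⟨v₀, hv₀V, hv₀K, hv₀1⟩ : ∃ v ∈ V, v ∈ K ∧ v ≠ 1 := by
    by_contra hcon
    push Not at hcon
    obtain ⟨v, hv, hv1⟩ : ∃ w ∈ V, w ≠ 1 := by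
      by_contra hcon
      push Not at hcon
      exact h.V_ne_bot ((Subgroup.eq_bot_iff_forall V).2 hcon)
    have hsub : (V : Set G') ⊆ {1, v} := by
      intro g hg
      by_cases hg1 : g = 1
      · simp [hg1]
      have hvK : v ∉ K := fun hk => hv1 (hcon v hv hk)
      have hgK : g ∉ K := fun hk => hg1 (hcon g hg hk)
      have h1 := hcon _ (V.mul_mem hv hg) (mul_mem_K h hm hR (h.sq hv) (h.sq hg) (hP v hv) (hP g hg) hvK hgK)
      have h2 : g = v := by
        rw [← h.inv_eq hv]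
        exact eq_inv_of_mul_eq_one_right h1
      simp [h2]
    have h1 : Nat.card V ≤ 2 := by
      calc Nat.card V = (V : Set G').ncard := rfl
        _ ≤ ({1, v} : Set G').ncard := Set.ncard_le_ncard hsub (Set.toFinite _)
        _ ≤ ({v} : Set G').ncard + 1 := Set.ncard_insert_le _ _
        _ = 2 := by rw [Set.ncard_singleton]
    have := h.card
    omega
  -- for all `v = ρ A ∈ V ∩ K`: `A` is not alternating, but some `w = ρ B ∈ V ∩ K` is
  have key : ∀ A : Sp, ρ A ∈ V → A ≠ 1 →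
      (¬ ∀ w : W, f w (A • w) = 0) ∧ ∃ B : Sp, ρ B ∈ V ∧ B ≠ 1 ∧ ∀ w : W, f w (B • w) = 0 := by
    intro A hAV hA1
    have hρ1 : ρ A ≠ 1 := fun h1 => hA1 (hR.inj (by rw [h1, map_one]))
    have hAA : A * A = 1 := by
      apply hR.inj
      rw [map_mul, map_one]
      exact h.sq hAV
    obtain ⟨x, hxo, hxi, hxR, hxs⟩ := exists_inv hAA hA1 hl
    have hxo' : Odd (orderOf (ρ x)) := by rwa [orderOf_injective ρ hR.inj]
    have hxi' : ρ A * ρ x * (ρ A)⁻¹ = (ρ x)⁻¹ := by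
      rw [← map_mul, ← map_inv, ← map_mul, hxi, map_inv]
    obtain ⟨w, hwV, hw1, hwx, hwO⟩ := h.t1 hAV hρ1 hxo' hxi'
    have hwA : Commute w (ρ A) := h.comm hwV hAV
    by_cases hwK : w ∈ K
    · obtain ⟨B, rfl⟩ := hR.surj w hwK
      have hB1 : B ≠ 1 := by
        rintro rfl
        exact hw1 (map_one ρ)
      have hBB : B * B = 1 := by
        apply hR.inj
        rw [map_mul, map_one]
        exact h.sq hwV
      have hRR := hxR ((O2 (Subgroup.centralizer ({ρ A} : Set G') ⊓ Subgroup.centralizer ({ρ x} : Set G'))).comap ρ)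
        ((isPGroup_O2 _).comap_of_injective ρ hR.inj) (by
          intro r hr
          have h1 := O2_le _ (Subgroup.mem_comap.1 hr)
          obtain ⟨h2, h3⟩ := Subgroup.mem_inf.1 h1
          rw [Subgroup.mem_centralizer_singleton_iff] at h2 h3
          refine Subgroup.mem_inf.2 ⟨Subgroup.mem_centralizer_singleton_iff.2 (hR.inj ?_),
            Subgroup.mem_centralizer_singleton_iff.2 (hR.inj ?_)⟩
          · rw [map_mul, map_mul]; exact h2
          · rw [map_mul, map_mul]; exact h3) (by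
          intro c hc r hr
          rw [Subgroup.mem_comap, map_mul, map_mul, map_inv]
          refine conj_mem_O2 ?_ (Subgroup.mem_comap.1 hr)
          obtain ⟨h2, h3⟩ := Subgroup.mem_inf.1 hc
          rw [Subgroup.mem_centralizer_singleton_iff] at h2 h3
          refine Subgroup.mem_inf.2 ⟨Subgroup.mem_centralizer_singleton_iff.2 ?_,
            Subgroup.mem_centralizer_singleton_iff.2 ?_⟩
          · rw [← map_mul, ← map_mul, h2]
          · rw [← map_mul, ← map_mul, h3])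
      obtain ⟨hR1, hR2⟩ := hRR
      constructor
      · intro halt
        apply hB1
        have h1 := hR1 halt
        have h2 : B ∈ ((O2 (Subgroup.centralizer ({ρ A} : Set G') ⊓
          Subgroup.centralizer ({ρ x} : Set G'))).comap ρ) := hwO
        rw [h1, Subgroup.mem_bot] at h2
        exact h2
      · exact ⟨B, hwV, hB1, hR2 B hwO hBB⟩
    · exfalso
      obtain ⟨s, σ, l', hs⟩ := hR.semi (hP w hwV)
      exact hlσ w hwV hwK s σ l' hs (hxs s σ hs.2.1.1 hs.2.1.2.1 s.injective (fun y => hs.comm hR hwA y)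
        (fun y => hs.comm hR hwx y))
  obtain ⟨A, rfl⟩ := hR.surj v₀ hv₀K
  obtain ⟨B, hBV, hB1, hB⟩ := (key A hv₀V (by rintro rfl; exact hv₀1 (map_one ρ))).2
  exact (key B hBV hB1).1 hB

end Grp

section Two

variable {F : Type} [Field F] [CharP F 2] [Finite F]
variable {G' : Type u} [Group G'] [Finite G'] {V K : Subgroup G'}
variable {ρ : Matrix.symplecticGroup (Fin 2) F →* G'} {φ : G' →* MulAut (PSp 2 F)}

local notation "Sp" => Matrix.symplecticGroup (Fin 2) F
local notation "W" => (Fin 2 ⊕ Fin 2 → F)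
local notation "f" => sympForm 2 F

/-- **the case of a graph automorphism** -/
theorem false_of_graph (h : Cx V K) (hR : Rep K ρ φ) (ht : ∃ t : F, t ≠ 0 ∧ t ≠ 1)
    {g₀ : G'} (hg₀ : g₀ ∈ V) (hg₀P : φ g₀ ∉ (Psi 2 F).range) : False := by
  have hm : (2 : ℕ) ≤ 2 := le_rfl
  have hm1 : (1 : ℕ) ≤ 2 := by norm_num
  have hB : ∀ α : MulAut (PSp 2 F), AutPSpCount.Pres α → α ∈ (Psi 2 F).range := fun α hα =>
    SympAutExists.exists_semi hm α hα
  have hidx := SympAutTwo.index_two (F := F) ht hB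
  obtain ⟨l, hl, hlσ⟩ := exists_scalar h hm1 hR
  obtain ⟨v₀, hv₀V, hv₀K, hv₀1⟩ := exists_mem_K h hm1 hR (by
    intro g g' hg hg'
    rw [map_mul, Subgroup.mul_mem_iff_of_index_two hidx]
    simp [hg, hg'])
  -- (T)
  have hT : ∀ A : Sp, ρ A ∈ V → ¬ ∃ b : W, b ≠ 0 ∧ ∃ k : F, k ≠ 0 ∧ A = transv b k := by
    rintro A hAV ⟨b, hb, k, hk, rfl⟩
    apply hg₀P
    refine mem_range_of_transv hm hb hb hk hk ?_
    rw [hR.act, (h.comm hg₀ hAV).eq, mul_inv_cancel_right]
  -- (A)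
  have hA : ∀ A : Sp, ρ A ∈ V → A ≠ 1 → ∃ w : W, f w (A • w) ≠ 0 := by
    intro A hAV hA1
    by_contra hcon
    push Not at hcon
    have hAA : A * A = 1 := by
      apply hR.inj
      rw [map_mul, map_one]
      exact h.sq hAV
    obtain ⟨g, hg⟩ := alt_conj hAA hA1 hcon
    rcases SympAutTwo.recog_two ht (φ g₀) with h1 | h1
    · exact hg₀P (hB _ h1)
    obtain ⟨s, ⟨b, hb, rfl⟩, hsc⟩ := h1 (Sp4GraphAut.e1 F) Sp4GraphAut.e1_ne_zero 1 one_ne_zero
    obtain ⟨y, hy⟩ := isConj_iff.1 hsc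
    obtain ⟨Y, rfl⟩ := QuotientGroup.mk_surjective y
    have hSb : ∀ w : W, f w (Sp4GraphAut.S b • w) = 0 := by
      intro w
      rw [smul_def, Sp4GraphAut.S_mulVec, sympForm_add_right, sympForm_add_right, sympForm_self,
        sympForm_smul_right, sympForm_smul_right]
      have e1 : f w (Sp4GraphAut.e1 F) = w (Sum.inr 0) := sympForm_single_inl_right 0 w
      have e2 : f w (Sp4GraphAut.e2 F) = w (Sum.inr 1) := sympForm_single_inl_right 1 w
      rw [e1, e2, zero_add]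
      have : b * w (Sum.inr 1) * w (Sum.inr 0) + b * w (Sum.inr 0) * w (Sum.inr 1) =
        b * w (Sum.inr 1) * w (Sum.inr 0) + b * w (Sum.inr 1) * w (Sum.inr 0) := by ring
      rw [this, CharTwo.add_self_eq_zero]
    have hSS : Sp4GraphAut.S b * Sp4GraphAut.S b = 1 := by
      apply ext_smul
      intro w
      rw [mul_smul, one_smul, smul_def, smul_def, Sp4GraphAut.S_mulVec, Sp4GraphAut.S_mulVec]
      ext i
      rcases i with i | i <;> fin_cases i <;> simp [Sp4GraphAut.e1, Sp4GraphAut.e2, add_assoc, CharTwo.add_self_eq_zero]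
    have hS1 : Sp4GraphAut.S b ≠ 1 := by
      intro h2
      apply Sp4GraphAut.S_ne_transv hb (0 : W) 0
      rw [h2, transv_zero]
    obtain ⟨g', hg'⟩ := alt_conj hSS hS1 hSb
    -- `φ g₀ t = C A C⁻¹`
    obtain ⟨C, hC⟩ : ∃ C : Sp, C = Y * g' * g⁻¹ := ⟨_, rfl⟩
    have h2 : g₀ * ρ (transv (Sp4GraphAut.e1 F) 1) * g₀⁻¹ = ρ (C * A * C⁻¹) := by
      rw [← hR.act, ← hy, ← QuotientGroup.mk_inv, ← QuotientGroup.mk_mul, ← QuotientGroup.mk_mul]
      congr 1
      rw [hC, hg', hg]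
      group
    obtain ⟨D, hD⟩ := hR.surj (g₀⁻¹ * ρ C * g₀) (by
      have := h.norm.conj_mem (ρ C) (hR.mem C) g₀⁻¹
      rwa [inv_inv] at this)
    have h3 : transv (Sp4GraphAut.e1 F) 1 = D * A * D⁻¹ := by
      apply hR.inj
      rw [map_mul, map_mul, map_inv, hD]
      have hc : g₀⁻¹ * ρ A * g₀ = ρ A := by
        rw [mul_assoc, ← (h.comm hg₀ hAV).eq]
        group
      calc ρ (transv (Sp4GraphAut.e1 F) 1) = g₀⁻¹ * (g₀ * ρ (transv (Sp4GraphAut.e1 F) 1) * g₀⁻¹) * g₀ := by group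
        _ = g₀⁻¹ * (ρ C * ρ A * (ρ C)⁻¹) * g₀ := by rw [h2, map_mul, map_mul, map_inv]
        _ = (g₀⁻¹ * ρ C * g₀) * (g₀⁻¹ * ρ A * g₀) * (g₀⁻¹ * ρ C * g₀)⁻¹ := by group
        _ = _ := by rw [hc]
    apply hT A hAV
    refine ⟨D⁻¹ • Sp4GraphAut.e1 F, smul_ne_zero' _ Sp4GraphAut.e1_ne_zero, 1, one_ne_zero, ?_⟩
    rw [← conj_transv, h3]
    group
  -- (C)
  obtain ⟨A, rfl⟩ := hR.surj v₀ hv₀K
  have hA1 : A ≠ 1 := by rintro rfl; exact hv₀1 (map_one ρ)
  have hAA : A * A = 1 := by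
    apply hR.inj
    rw [map_mul, map_one]
    exact h.sq hv₀V
  obtain ⟨w₀, hw₀⟩ := hA A hv₀V hA1
  obtain ⟨x, hxo, hxi, hxB, ⟨A', hA'1, hA'A', hA'A, hA'x⟩, hxs⟩ := sp4_key hAA hw₀ hl
  have hxo' : Odd (orderOf (ρ x)) := by rwa [orderOf_injective ρ hR.inj]
  have hxi' : ρ A * ρ x * (ρ A)⁻¹ = (ρ x)⁻¹ := by
    rw [← map_mul, ← map_inv, ← map_mul, hxi, map_inv]
  obtain ⟨w, hwV, hw1, hwx⟩ := h.t0 hv₀V hxo' hxi'
  have hwA : Commute w (ρ A) := h.comm hwV hv₀V
  by_cases hwK : w ∈ K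
  · obtain ⟨B, rfl⟩ := hR.surj w hwK
    apply hT B hwV
    apply hxB B
    · apply hR.inj
      rw [map_mul, map_one]
      exact h.sq hwV
    · rintro rfl
      exact hw1 (map_one ρ)
    · apply hR.inj
      rw [map_mul, map_mul]
      exact hwA.eq
    · apply hR.inj
      rw [map_mul, map_mul]
      exact hwx.eq
  · have hA'1' : A' ≠ 1 := fun h1 => hT A hv₀V (hA'1 h1)
    obtain ⟨b, hb, k, hk, hbk⟩ := hxB A' hA'A' hA'1' hA'A hA'x
    obtain ⟨B, hBw⟩ := hR.surj (w * ρ A' * w⁻¹) (h.norm.conj_mem _ (hR.mem A') w)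
    have hBB : B * B = 1 := by
      apply hR.inj
      rw [map_mul, map_one, hBw]
      calc w * ρ A' * w⁻¹ * (w * ρ A' * w⁻¹) = w * (ρ A' * ρ A') * w⁻¹ := by group
        _ = 1 := by rw [← map_mul, hA'A', map_one]; group
    have hB1 : B ≠ 1 := by
      rintro rfl
      apply hA'1'
      apply hR.inj
      rw [map_one] at hBw ⊢
      calc ρ A' = w⁻¹ * (w * ρ A' * w⁻¹) * w := by group
        _ = 1 := by rw [← hBw]; group
    have hBA : B * A = A * B := by
      apply hR.inj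
      rw [map_mul, map_mul, hBw]
      have e1 : Commute (ρ A') (ρ A) := by
        change ρ A' * ρ A = ρ A * ρ A'
        rw [← map_mul, ← map_mul, hA'A]
      exact ((hwA.mul_left e1).mul_left hwA.inv_left).eq
    have hBx : B * x = x * B := by
      apply hR.inj
      rw [map_mul, map_mul, hBw]
      have e1 : Commute (ρ A') (ρ x) := by
        change ρ A' * ρ x = ρ x * ρ A'
        rw [← map_mul, ← map_mul, hA'x]
      exact ((hwx.mul_left e1).mul_left hwx.inv_left).eq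
    obtain ⟨b', hb', k', hk', hbk'⟩ := hxB B hBB hB1 hBA hBx
    have hwP : φ w ∈ (Psi 2 F).range := by
      refine mem_range_of_transv hm hb hb' hk hk' ?_
      rw [hR.act, ← hbk, ← hbk', hBw]
    obtain ⟨s, σ, l', hs⟩ := hR.semi hwP
    exact hlσ w hwV hwK s σ l' hs (hxs s σ hs.2.1.1 hs.2.1.2.1 s.injective (fun y => hs.comm hR hwA y)
      (fun y => hs.comm hR hwx y))

end Two

/-- **The row `PSp_2m(q)`, `q` even.** -/
theorem row_psp : DeadS.{u} fun K _ => Cfsg.Agent.H731.SK.PspEven K := by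
  intro G' _ _ V K h hK
  obtain ⟨F, _, _, _, m, hm, hm2, ⟨e⟩⟩ := hK
  obtain ⟨ρ, φ, hR⟩ := exists_rep h e
  by_cases hP : ∀ g ∈ V, φ g ∈ (Psi m F).range
  · exact false_of_semi h (by omega) hR hP
  push Not at hP
  obtain ⟨g₀, hg₀, hg₀P⟩ := hP
  rcases Nat.lt_or_ge m 3 with hm3 | hm3
  · obtain rfl : m = 2 := by omega
    have ht : ∃ t : F, t ≠ 0 ∧ t ≠ 1 := by
      classical
      by_contra hcon
      push Not at hcon
      have h1 : (Finset.univ : Finset F) ⊆ {0, 1} := by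
        intro t _
        by_cases h0 : t = 0
        · simp [h0]
        · simp [hcon t h0]
      have h2 := Finset.card_le_card h1
      have h3 : ({0, 1} : Finset F).card ≤ 2 := Finset.card_le_two
      have h4 := hm2 rfl
      rw [Finset.card_univ] at h2
      omega
    exact false_of_graph h hR ht hg₀ hg₀P
  · exact hg₀P (SympAutExists.exists_semi hm (φ g₀) (SympAutOddA.recog hm (Or.inl hm3) (φ g₀)))

end Cfsg.Agent.H736.SK
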