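import Cfsg.Agent.H736.SK.Ginv
import Cfsg.Agent.ClassicalGeometry.SympSiegel

/-!
# S3010, `PSp_2m(q)`, `q` even: the centralizer of a homogeneous dihedral group (helper736)

`N`, `M` symmetric nilpotent with `N M N = N`, `M N M = M`, `R` a 2-group of symplectic matrices commuting with `N`
and `M`, normalized by all symplectic matrices commuting with `N` and `M`.

* `fix_of` : a normal 2-subgroup acts trivially on a nondegenerate space with all its transvections;
* `fix_perp` : `R` is trivial on `ker N ∩ ker M`;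
* `eq_one_of_alt` : `R = 1` if `(ξ, N ξ) = 0` for all `ξ`;
* `alt_of_mem` : `(ξ, r ξ) = 0` for all involutions `r` of `R`.
-/

set_option autoImplicit false
set_option linter.unusedSectionVars false

namespace Cfsg.Agent.H736.SK

open Matrix Cfsg Cfsg.Agent.ClassicalGeometry.SympBasic Cfsg.Agent.ClassicalGeometry.SympSiegel

variable {F : Type*} [Field F] [CharP F 2] {m : ℕ}

local notation "V" => (Fin m ⊕ Fin m → F)
local notation "G" => Matrix.symplecticGroup (Fin m) F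
local notation "f" => sympForm m F
local notation "Mt" => Matrix (Fin m ⊕ Fin m) (Fin m ⊕ Fin m) F

theorem add_self_vec (x : V) : x + x = 0 := by
  ext i
  exact CharTwo.add_self_eq_zero _

theorem form_comm (u v : V) : f u v = f v u := by rw [sympForm_swap, CharTwo.neg_eq]

/-- symmetric operators -/
theorem form_adj {A : Mt} (hA : adj A = A) (u v : V) : f (A *ᵥ u) v = f u (A *ᵥ v) := by
  rw [sympForm_def, sympForm_def, Matrix.mulVec_mulVec, ← adj_eq_iff.1 hA, ← Matrix.mulVec_mulVec,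
    Matrix.dotProduct_mulVec u, Matrix.vecMul_transpose]

/-- `(1 + a)^(2^k) = 1 + a^(2^k)` -/
theorem one_add_pow {R : Type*} [Ring R] (h2 : ∀ x : R, x + x = 0) (a : R) (k : ℕ) :
    (1 + a) ^ 2 ^ k = 1 + a ^ 2 ^ k := by
  induction k with
  | zero => rw [pow_zero, pow_one, pow_one]
  | succ k ih =>
    rw [pow_succ 2 k, pow_mul, ih, pow_mul, pow_two, pow_two]
    calc (1 + a ^ 2 ^ k) * (1 + a ^ 2 ^ k) = 1 + (a ^ 2 ^ k + a ^ 2 ^ k) + a ^ 2 ^ k * a ^ 2 ^ k := by noncomm_ring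
      _ = _ := by rw [h2, add_zero]

/-- an element moving `z` to `z + c z'` and `z'` to `z' + c z + c² z'` is not of 2-power order -/
theorem not_two {g : G} {k : ℕ} (hg : g ^ 2 ^ k = 1) {z z' : V} {c : F} (hc : c ≠ 0) (hz : z ≠ 0)
    (h1 : g • z = z + c • z') (h2 : g • z' = z' + c • z + (c * c) • z') : False := by
  obtain ⟨D, hD⟩ : ∃ D : Mt, D = 1 + (g : Mt) := ⟨_, rfl⟩
  have hD0 : D ^ 2 ^ k = 0 := by
    rw [hD, one_add_pow add_self_mat]
    have e : (g : Mt) ^ 2 ^ k = 1 := by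
      rw [← SubmonoidClass.coe_pow, hg]
      rfl
    rw [e, add_self_mat]
  have e1 : D *ᵥ z = c • z' := by
    rw [hD, Matrix.add_mulVec, Matrix.one_mulVec, ← smul_def, h1, ← add_assoc, add_self_vec, zero_add]
  have e2 : D *ᵥ z' = c • z + (c * c) • z' := by
    rw [hD, Matrix.add_mulVec, Matrix.one_mulVec, ← smul_def, h2, add_assoc, ← add_assoc z' z', add_self_vec, zero_add]
  have key : ∀ j : ℕ, D ^ j *ᵥ z = 0 → D ^ j *ᵥ z' = 0 → False := by
    intro j
    induction j with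
    | zero =>
      intro h _
      rw [pow_zero, Matrix.one_mulVec] at h
      exact hz h
    | succ j ih =>
      intro h h'
      rw [pow_succ, ← Matrix.mulVec_mulVec, e1, Matrix.mulVec_smul] at h
      have h3 : D ^ j *ᵥ z' = 0 := (smul_eq_zero.1 h).resolve_left hc
      rw [pow_succ, ← Matrix.mulVec_mulVec, e2, Matrix.mulVec_add, Matrix.mulVec_smul, Matrix.mulVec_smul, h3,
        smul_zero, add_zero] at h'
      exact ih ((smul_eq_zero.1 h').resolve_left hc) h3
  exact key (2 ^ k) (by rw [hD0, Matrix.zero_mulVec]) (by rw [hD0, Matrix.zero_mulVec])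

/-- **A normal 2-subgroup acts trivially on a nondegenerate space with all its transvections.** -/
theorem fix_of {R C : Subgroup G} (hR : IsPGroup 2 R) (hn : ∀ c ∈ C, ∀ r ∈ R, c * r * c⁻¹ ∈ R) (Y : Submodule F V)
    (hY : ∀ r ∈ R, ∀ y ∈ Y, r • y ∈ Y) (B : V → V → F) (hadd : ∀ u v w, B (u + v) w = B u w + B v w)
    (hsmul : ∀ (a : F) u v, B (a • u) v = a * B u v) (hsymm : ∀ u v, B u v = B v u) (halt : ∀ u, B u u = 0)
    (hinv : ∀ r ∈ R, ∀ y z, B (r • y) (r • z) = B y z)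
    (ht : ∀ z ∈ Y, ∃ c ∈ C, ∀ y ∈ Y, c • y = y + B y z • z)
    (hnd : ∀ z ∈ Y, (∀ y ∈ Y, B y z = 0) → z = 0) : ∀ r ∈ R, ∀ z ∈ Y, r • z = z := by
  have hadd' : ∀ u v w, B w (u + v) = B w u + B w v := fun u v w => by rw [hsymm, hadd, hsymm u, hsymm v]
  have hsmul' : ∀ (a : F) u v, B v (a • u) = a * B v u := fun a u v => by rw [hsymm, hsmul, hsymm u]
  -- the commutator
  have key : ∀ r ∈ R, ∀ z ∈ Y, ∃ g ∈ R, ∀ y ∈ Y,
      g • y = (y + B y z • z) + B (y + B y z • z) (r • z) • (r • z) := by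
    intro r hr z hz
    obtain ⟨c, hc, hcy⟩ := ht z hz
    refine ⟨r * (c * r⁻¹ * c⁻¹), R.mul_mem hr (hn c hc _ (R.inv_mem hr)), fun y hy => ?_⟩
    have h1 : c⁻¹ • y = y + B y z • z := by
      rw [inv_smul_eq_iff, smul_add', hcy y hy, smul_smul', hcy z hz, halt, zero_smul, add_zero, add_assoc,
        add_self_vec, add_zero]
    have hy1 : y + B y z • z ∈ Y := Y.add_mem hy (Y.smul_mem _ hz)
    rw [mul_smul, mul_smul, mul_smul, h1]
    set y1 := y + B y z • z with hy1def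
    have h2 : r⁻¹ • y1 ∈ Y := hY _ (R.inv_mem hr) _ hy1
    rw [hcy _ h2, smul_add', smul_inv_smul, smul_smul']
    congr 2
    have h3 := hinv r hr (r⁻¹ • y1) z
    rw [smul_inv_smul] at h3
    exact h3.symm
  -- `B z (r z) = 0`
  have h0 : ∀ r ∈ R, ∀ z ∈ Y, B z (r • z) = 0 := by
    intro r hr z hz
    by_contra hc
    obtain ⟨g, hg, hgy⟩ := key r hr z hz
    obtain ⟨k, hk⟩ := hR ⟨g, hg⟩
    have hk' : g ^ 2 ^ k = 1 := congrArg Subtype.val hk
    have hz0 : z ≠ 0 := by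
      rintro rfl
      apply hc
      have := hsmul 0 (0 : V) (r • (0 : V))
      rwa [zero_smul, zero_mul] at this
    refine not_two hk' (z := z) (z' := r • z) hc hz0 ?_ ?_
    · rw [hgy z hz, halt, zero_smul, add_zero]
    · rw [hgy _ (hY r hr z hz), hadd, hsmul, halt, hsymm (r • z) z, zero_add]
  intro r hr z hz
  have hrz := hY r hr z hz
  obtain ⟨g, hg, hgy⟩ := key r hr z hz
  have h1 : z + r • z = 0 := by
    refine hnd _ (Y.add_mem hz hrz) fun y hy => ?_
    have h2 := h0 g hg y hy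
    rw [hgy y hy, hadd, hsmul, h0 r hr z hz, mul_zero, add_zero, hadd', hadd', halt, zero_add, hsmul', hsmul'] at h2
    have h3 : (B y z + B y (r • z)) * (B y z + B y (r • z)) = 0 := by
      have e : (B y z + B y (r • z)) * (B y z + B y (r • z)) =
          (B y z * B y z + B y (r • z) * B y (r • z)) + (B y z * B y (r • z) + B y z * B y (r • z)) := by ring
      rw [e, h2, CharTwo.add_self_eq_zero, add_zero]
    rw [hadd']
    exact mul_self_eq_zero.1 h3
  have h2 : z + r • z = z + z := by rw [h1, add_self_vec]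
  exact add_left_cancel h2

/-- `M` is an opposite of `N`. -/
structure Opp (N M : Mt) : Prop where
  aN : adj N = N
  NN : N * N = 0
  aM : adj M = M
  MM : M * M = 0
  NMN : N * M * N = N
  MNM : M * N * M = M

namespace Opp

variable {N M : Matrix (Fin m ⊕ Fin m) (Fin m ⊕ Fin m) F} (h : Opp N M)

include h

theorem NMN' (v : V) : N *ᵥ (M *ᵥ (N *ᵥ v)) = N *ᵥ v := by
  rw [Matrix.mulVec_mulVec, Matrix.mulVec_mulVec, h.NMN]

theorem MNM' (v : V) : M *ᵥ (N *ᵥ (M *ᵥ v)) = M *ᵥ v := by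
  rw [Matrix.mulVec_mulVec, Matrix.mulVec_mulVec, h.MNM]

theorem NN' (v : V) : N *ᵥ (N *ᵥ v) = 0 := by rw [Matrix.mulVec_mulVec, h.NN, Matrix.zero_mulVec]

theorem MM' (v : V) : M *ᵥ (M *ᵥ v) = 0 := by rw [Matrix.mulVec_mulVec, h.MM, Matrix.zero_mulVec]

/-- the decomposition of a vector -/
theorem decomp (v : V) : ∃ y : V, N *ᵥ y = 0 ∧ M *ᵥ y = 0 ∧ v = y + M *ᵥ (N *ᵥ v) + N *ᵥ (M *ᵥ v) := by
  refine ⟨v + M *ᵥ (N *ᵥ v) + N *ᵥ (M *ᵥ v), ?_, ?_, ?_⟩
  · rw [Matrix.mulVec_add, Matrix.mulVec_add, h.NMN', h.NN', add_zero, add_self_vec]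
  · rw [Matrix.mulVec_add, Matrix.mulVec_add, h.MNM', h.MM', add_zero, add_self_vec]
  · have e : v + M *ᵥ (N *ᵥ v) + N *ᵥ (M *ᵥ v) + M *ᵥ (N *ᵥ v) + N *ᵥ (M *ᵥ v) =
        v + (M *ᵥ (N *ᵥ v) + M *ᵥ (N *ᵥ v)) + (N *ᵥ (M *ᵥ v) + N *ᵥ (M *ᵥ v)) := by abel
    rw [e, add_self_vec, add_self_vec, add_zero, add_zero]

/-- `ker N ∩ ker M` is orthogonal to the images -/
theorem perp_N {y : V} (hy : N *ᵥ y = 0) (v : V) : f y (N *ᵥ v) = 0 := by
  rw [← form_adj h.aN, hy, sympForm_zero_left]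

theorem perp_M {y : V} (hy : M *ᵥ y = 0) (v : V) : f y (M *ᵥ v) = 0 := by
  rw [← form_adj h.aM, hy, sympForm_zero_left]

variable {R C : Subgroup (Matrix.symplecticGroup (Fin m) F)} (hR : IsPGroup 2 R)
  (hn : ∀ c ∈ C, ∀ r ∈ R, c * r * c⁻¹ ∈ R)
  (hC : ∀ c : Matrix.symplecticGroup (Fin m) F, c ∈ C ↔ (∀ v : Fin m ⊕ Fin m → F, c • (N *ᵥ v) = N *ᵥ (c • v)) ∧
    ∀ v : Fin m ⊕ Fin m → F, c • (M *ᵥ v) = M *ᵥ (c • v))
  (hRC : R ≤ C)

include hR hn hC hRC

/-- `R` is trivial on `ker N ∩ ker M` -/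
theorem fix_perp {r : G} (hr : r ∈ R) {z : V} (hzN : N *ᵥ z = 0) (hzM : M *ᵥ z = 0) : r • z = z := by
  let Y : Submodule F V :=
    { carrier := {z | N *ᵥ z = 0 ∧ M *ᵥ z = 0}
      add_mem' := fun {a b} ha hb => ⟨by rw [Matrix.mulVec_add, ha.1, hb.1, add_zero],
        by rw [Matrix.mulVec_add, ha.2, hb.2, add_zero]⟩
      zero_mem' := ⟨Matrix.mulVec_zero _, Matrix.mulVec_zero _⟩
      smul_mem' := fun c a ha => ⟨by rw [Matrix.mulVec_smul, ha.1, smul_zero],
        by rw [Matrix.mulVec_smul, ha.2, smul_zero]⟩ }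
  refine fix_of hR hn Y ?_ (fun u v => f u v) (fun u v w => sympForm_add_left u v w)
    (fun a u v => sympForm_smul_left a u v) form_comm sympForm_self (fun r _ y z => form_smul r y z) ?_ ?_ r hr z
    ⟨hzN, hzM⟩
  · intro r hr y hy
    obtain ⟨h1, h2⟩ := (hC r).1 (hRC hr)
    exact ⟨by rw [← h1, hy.1, smul_zero'], by rw [← h2, hy.2, smul_zero']⟩
  · intro z hz
    refine ⟨transv z 1, ?_, fun y _ => by rw [transv_smul, one_mul]⟩
    rw [hC]
    constructor
    · intro v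
      rw [transv_smul, transv_smul, Matrix.mulVec_add, Matrix.mulVec_smul, hz.1, smul_zero, add_zero, form_comm,
        h.perp_N hz.1, mul_zero, zero_smul, add_zero]
    · intro v
      rw [transv_smul, transv_smul, Matrix.mulVec_add, Matrix.mulVec_smul, hz.2, smul_zero, add_zero, form_comm,
        h.perp_M hz.2, mul_zero, zero_smul, add_zero]
  · intro z hz hall
    apply eq_zero_of_forall_sympForm_right
    intro v
    obtain ⟨y, hyN, hyM, e⟩ := h.decomp v
    rw [e, sympForm_add_right, sympForm_add_right, h.perp_M hz.2, h.perp_N hz.1, add_zero, add_zero, form_comm]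
    exact hall y ⟨hyN, hyM⟩

/-- **`R = 1` if `(ξ, N ξ) = 0` for all `ξ`** -/
theorem eq_one_of_alt (ha : ∀ v : V, f v (N *ᵥ v) = 0) {r : G} (hr : r ∈ R) : r = 1 := by
  let Y : Submodule F V :=
    { carrier := {z | M *ᵥ (N *ᵥ z) = z}
      add_mem' := fun {a b} ha hb => by
        change M *ᵥ (N *ᵥ (a + b)) = a + b
        rw [Matrix.mulVec_add, Matrix.mulVec_add, show M *ᵥ (N *ᵥ a) = a from ha, show M *ᵥ (N *ᵥ b) = b from hb]
      zero_mem' := by
        change M *ᵥ (N *ᵥ 0) = 0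
        rw [Matrix.mulVec_zero, Matrix.mulVec_zero]
      smul_mem' := fun c a ha => by
        change M *ᵥ (N *ᵥ (c • a)) = c • a
        rw [Matrix.mulVec_smul, Matrix.mulVec_smul, show M *ᵥ (N *ᵥ a) = a from ha] }
  have hYM : ∀ y ∈ Y, M *ᵥ y = 0 := by
    intro y hy
    have hy' : M *ᵥ (N *ᵥ y) = y := hy
    rw [← hy', h.MM']
  have hYY : ∀ y ∈ Y, ∀ z ∈ Y, f y z = 0 := by
    intro y hy z hz
    have hz' : M *ᵥ (N *ᵥ z) = z := hz
    rw [← hz']
    exact h.perp_M (hYM y hy) _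
  have hfix : ∀ z ∈ Y, r • z = z := by
    refine fix_of hR hn Y ?_ (fun u v => f u (N *ᵥ v)) (fun u v w => sympForm_add_left u v _)
      (fun a u v => sympForm_smul_left a u _) (fun u v => by rw [← form_adj h.aN, form_comm]) ha
      (fun r hr y z => ?_) ?_ ?_ r hr
    · intro r hr y hy
      obtain ⟨h1, h2⟩ := (hC r).1 (hRC hr)
      change M *ᵥ (N *ᵥ (r • y)) = r • y
      rw [← h1, ← h2]
      congr 1
    · obtain ⟨h1, h2⟩ := (hC r).1 (hRC hr)
      rw [← h1, form_smul]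
    · intro z hz
      have hz' : M *ᵥ (N *ᵥ z) = z := hz
      have h0 : f z (N *ᵥ z) = 0 := ha z
      have h0' : f (N *ᵥ z) z = 0 := by rw [form_comm]; exact h0
      refine ⟨siegel z (N *ᵥ z) 0, ?_, fun y hy => ?_⟩
      · rw [hC]
        constructor
        · intro v
          rw [siegel_smul h0, siegel_smul h0, zero_smul, add_zero, Matrix.mulVec_add, Matrix.mulVec_add,
            Matrix.mulVec_smul, Matrix.mulVec_smul, h.NN', smul_zero, add_zero, form_adj h.aN, h.NN',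
            sympForm_zero_right, zero_smul, add_zero, form_adj h.aN]
        · intro v
          rw [siegel_smul h0, siegel_smul h0, zero_smul, add_zero, Matrix.mulVec_add, Matrix.mulVec_add,
            Matrix.mulVec_smul, Matrix.mulVec_smul, hYM z hz, smul_zero, add_zero, hz', ← form_adj h.aM, hz',
            ← form_adj h.aM z, hYM z hz, sympForm_zero_left, zero_smul, add_zero]
      · rw [siegel_smul h0, zero_smul, add_zero, hYY z hz y hy, zero_smul, add_zero, form_comm (N *ᵥ z)]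
    · intro z hz hall
      have hz' : M *ᵥ (N *ᵥ z) = z := hz
      apply eq_zero_of_forall_sympForm_right
      intro v
      have h1 : f (M *ᵥ v) (N *ᵥ z) = 0 := hall (M *ᵥ v) (h.MNM' v)
      rw [form_adj h.aM, hz', form_comm] at h1
      exact h1
  obtain ⟨h1, h2⟩ := (hC r).1 (hRC hr)
  apply ext_smul
  intro v
  obtain ⟨y, hyN, hyM, e⟩ := h.decomp v
  rw [one_smul]
  conv_lhs => rw [e]
  conv_rhs => rw [e]
  rw [smul_add', smul_add', h.fix_perp hR hn hC hRC hr hyN hyM, hfix (M *ᵥ (N *ᵥ v)) (by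
    change M *ᵥ (N *ᵥ (M *ᵥ (N *ᵥ v))) = _
    rw [h.MNM']), h1]
  congr 2
  exact hfix _ (h.MNM' v)

/-- **the involutions of `R` are alternating** -/
theorem alt_of_mem {r : G} (hr : r ∈ R) (hrr : r * r = 1) (v : V) : f v (r • v) = 0 := by
  obtain ⟨h1, h2⟩ := (hC r).1 (hRC hr)
  obtain ⟨y, hyN, hyM, e⟩ := h.decomp v
  set a := M *ᵥ (N *ᵥ v) with ha
  set b := N *ᵥ (M *ᵥ v) with hb
  have hry := h.fix_perp hR hn hC hRC hr hyN hyM
  have hra : r • a = M *ᵥ (r • (N *ᵥ v)) := h2 _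
  have hrb : r • b = N *ᵥ (r • (M *ᵥ v)) := h1 _
  have hrr' : ∀ u : V, r • (r • u) = u := fun u => by rw [← mul_smul, hrr, one_smul]
  rw [e, smul_add', smul_add', hry]
  simp only [sympForm_add_left, sympForm_add_right]
  have k1 : f y (r • a) = 0 := by rw [hra]; exact h.perp_M hyM _
  have k2 : f y (r • b) = 0 := by rw [hrb]; exact h.perp_N hyN _
  have k3 : f a y = 0 := by rw [form_comm]; exact h.perp_M hyM _
  have k4 : f b y = 0 := by rw [form_comm]; exact h.perp_N hyN _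
  have k5 : f a (r • a) = 0 := by
    rw [hra, ← form_adj h.aM, ha, h.MM', sympForm_zero_left]
  have k6 : f b (r • b) = 0 := by
    rw [hrb, ← form_adj h.aN, hb, h.NN', sympForm_zero_left]
  have k7 : f b (r • a) = f a (r • b) := by
    rw [← form_smul r b, hrr', form_comm]
  rw [k1, k2, k3, k4, k5, k6, k7, sympForm_self]
  simp only [zero_add, add_zero]
  exact CharTwo.add_self_eq_zero _

end Opp

end Cfsg.Agent.H736.SK
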